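import Mathlib
import Cfsg.Prelude.Def_Local
import Cfsg.Agent.Lib.ZStar.Final

/-!
# A standard subgroup with centre of order two whose central involution is isolated

Fusion conditions on a quasisimple group `A` with centre `⟨z⟩` of order two making the central
involution isolated in any group where `A` is standard with cyclic Sylow 2-subgroups in its
centraliser.
-/

set_option autoImplicit false

namespace Cfsg.Agent.Lib.StdDouble76

open Cfsg

variable {G : Type*} [Group G] [Finite G]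

/-- In a cyclic Sylow 2-subgroup there is one involution. -/
theorem eq_of_cyclic_sylow {C : Type*} [Group C] [Finite C]
    (hR : ∀ R : Sylow 2 C, IsCyclic ↥(R : Subgroup C)) {x y : C} (hx : x ^ 2 = 1) (hy : y ^ 2 = 1)
    (hx1 : x ≠ 1) (hy1 : y ≠ 1) (hxy : Commute x y) : x = y := by
  haveI : Fact (Nat.Prime 2) := ⟨Nat.prime_two⟩
  have hp : ∀ {w : C}, w ^ 2 = 1 → IsPGroup 2 ↥(Subgroup.zpowers w) := fun {w} hw => by
    intro ⟨v, hv⟩
    obtain ⟨i, rfl⟩ := hv
    exact ⟨1, Subtype.ext (by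
      show (w ^ i) ^ (2 ^ 1) = 1
      rw [pow_one, ← zpow_natCast, ← zpow_mul, mul_comm, zpow_mul, zpow_natCast, hw, one_zpow])⟩
  have hn : Subgroup.zpowers x ≤ Subgroup.normalizer ((Subgroup.zpowers y : Subgroup C) : Set C) := by
    refine le_trans (Subgroup.zpowers_le.2 ?_) (Subgroup.centralizer_le_normalizer _)
    intro v hv
    obtain ⟨i, rfl⟩ := hv
    exact (hxy.zpow_right i).eq.symm
  obtain ⟨R, hR'⟩ := ((hp hx).to_sup_of_normal_right' (hp hy) hn).exists_le_sylow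
  haveI := hR R
  classical
  haveI : Fintype ↥(R : Subgroup C) := Fintype.ofFinite _
  have hc := IsCyclic.card_pow_eq_one_le (α := ↥(R : Subgroup C)) (n := 2) two_pos
  by_contra hne
  let X : ↥(R : Subgroup C) := ⟨x, hR' (Subgroup.mem_sup_left (Subgroup.mem_zpowers x))⟩
  let Y : ↥(R : Subgroup C) := ⟨y, hR' (Subgroup.mem_sup_right (Subgroup.mem_zpowers y))⟩
  have h3 : ({1, X, Y} : Finset ↥(R : Subgroup C)).card = 3 := by
    refine Finset.card_eq_three.2 ⟨1, X, Y, fun e => hx1 ?_, fun e => hy1 ?_, fun e => hne ?_, rfl⟩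
    · exact (congrArg Subtype.val e).symm
    · exact (congrArg Subtype.val e).symm
    · exact congrArg Subtype.val e
  have hsub : ({1, X, Y} : Finset ↥(R : Subgroup C)) ⊆ Finset.univ.filter (fun v => v ^ 2 = 1) := by
    intro v hv
    simp only [Finset.mem_insert, Finset.mem_singleton] at hv
    refine Finset.mem_filter.2 ⟨Finset.mem_univ _, ?_⟩
    rcases hv with rfl | rfl | rfl
    · simp
    · exact Subtype.ext hx
    · exact Subtype.ext hy
  have := (Finset.card_le_card hsub).trans hc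
  omega

theorem normal_of_double (hO : oddCore G = ⊥) (A : Subgroup G) (hA : IsStandardSubgroup A)
    (hZ : Nat.card ↥(Subgroup.center ↥A) = 2)
    (hR : ∀ R : Sylow 2 ↥(Subgroup.centralizer (A : Set G)),
      IsCyclic ↥(R : Subgroup ↥(Subgroup.centralizer (A : Set G))))
    (hInner : ∀ φ : MulAut ↥A, ∃ a : ↥A, ∀ x : ↥A, φ x = a * x * a⁻¹)
    (h1 : ∀ s : ↥A, s ^ 2 = 1 → s ∉ Subgroup.center ↥A → ∃ x : ↥A, x ^ 4 = s)
    (h2 : ∀ x : ↥A, x ^ 4 ∈ Subgroup.center ↥A → x ^ 4 = 1)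
    (h3 : ∀ s : ↥A, s ^ 2 = 1 → s ∉ Subgroup.center ↥A → ∃ P : Subgroup ↥A, IsPGroup 2 ↥P ∧
      ¬ 2 ∣ P.index ∧ (∀ p ∈ P, Commute p s) ∧
      ∀ u ∈ P, (∀ p ∈ P, Commute p u) → u ^ 2 * s⁻¹ ∉ Subgroup.center ↥A) :
    A.Normal := by
  haveI : Fact (Nat.Prime 2) := ⟨Nat.prime_two⟩
  obtain ⟨-, ⟨-, hte⟩, -, hNC⟩ := hA
  set C := Subgroup.centralizer (A : Set G) with hCdef
  set N := Subgroup.normalizer (A : Set G) with hNdef
  obtain ⟨z, hz1, hzu⟩ := (Nat.card_eq_two_iff' (1 : ↥(Subgroup.center ↥A))).1 hZ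
  have hzC : ((z : ↥A) : G) ∈ C := Subgroup.mem_centralizer_iff.2 fun x hx =>
    congrArg Subtype.val (Subgroup.mem_center_iff.1 z.2 ⟨x, hx⟩)
  set w : G := ((z : ↥A) : G) with hw
  have hwA : w ∈ A := (z : ↥A).2
  have hw1 : w ≠ 1 := fun e => hz1 (Subtype.ext (Subtype.ext e))
  have hw2 : w ^ 2 = 1 := by
    have : z ^ 2 = 1 := by
      rw [← hZ]; exact pow_card_eq_one'
    exact congrArg (fun v : ↥(Subgroup.center ↥A) => ((v : ↥A) : G)) this
  have hAC : ∀ a : G, a ∈ A → a ∈ C → a = 1 ∨ a = w := by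
    intro a haA haC
    have hm : (⟨a, haA⟩ : ↥A) ∈ Subgroup.center ↥A := Subgroup.mem_center_iff.2 fun x =>
      Subtype.ext (Subgroup.mem_centralizer_iff.1 haC x x.2)
    by_cases h : (⟨⟨a, haA⟩, hm⟩ : ↥(Subgroup.center ↥A)) = 1
    · exact Or.inl (congrArg (fun v : ↥(Subgroup.center ↥A) => ((v : ↥A) : G)) h)
    · exact Or.inr (congrArg (fun v : ↥(Subgroup.center ↥A) => ((v : ↥A) : G)) (hzu _ h))
  have hcomm : ∀ {a c : G}, a ∈ A → c ∈ C → Commute a c := fun ha hc =>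
    Subgroup.mem_centralizer_iff.1 hc _ ha
  have hcen : ∀ a : ↥A, a ∈ Subgroup.center ↥A → (a : G) ∈ C := fun a ha =>
    Subgroup.mem_centralizer_iff.2 fun x hx =>
      congrArg Subtype.val (Subgroup.mem_center_iff.1 ha ⟨x, hx⟩)
  -- the normaliser is the centraliser of `w`
  have hN : ∀ n : G, n ∈ N ↔ Commute n w := by
    intro n
    constructor
    · intro hn
      have hm : n * w * n⁻¹ ∈ A := (Subgroup.mem_normalizer_iff.1 hn w).1 hwA
      have hc : n * w * n⁻¹ ∈ C := Subgroup.mem_centralizer_iff.2 fun x hx => by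
        have hb : n⁻¹ * x * n ∈ A := (Subgroup.mem_normalizer_iff.1 hn _).2 (by
          rwa [show n * (n⁻¹ * x * n) * n⁻¹ = x by group])
        have := (hcomm hb hzC).eq
        calc x * (n * w * n⁻¹) = n * ((n⁻¹ * x * n) * w) * n⁻¹ := by group
          _ = n * (w * (n⁻¹ * x * n)) * n⁻¹ := by rw [this]
          _ = n * w * n⁻¹ * x := by group
      rcases hAC _ hm hc with h | h
      · exact absurd (conj_eq_one_iff.1 h) hw1
      · show n * w = w * n
        calc n * w = n * w * n⁻¹ * n := by group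
          _ = w * n := by rw [h]
    · intro hn
      by_contra hnN
      have hnN : n ∉ Subgroup.normalizer (C : Set G) := hNC ▸ hnN
      have hmem : w ∈ C ⊓ C.map (MulAut.conj n).toMonoidHom :=
        ⟨hzC, w, hzC, show n * w * n⁻¹ = w by rw [hn.eq, mul_inv_cancel_right]⟩
      have h := Subgroup.orderOf_dvd_natCard _ hmem
      rw [orderOf_eq_prime hw2 hw1] at h
      exact Nat.not_even_iff_odd.2 (hte n hnN) (even_iff_two_dvd.2 h)
  have hAN : A ≤ N := Subgroup.le_normalizer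
  have hCN : C ≤ N := Subgroup.centralizer_le_normalizer _
  have hdec : ∀ n ∈ N, ∃ a ∈ A, ∃ c ∈ C, n = a * c := by
    intro n hn
    obtain ⟨a, ha⟩ := hInner (A.normalizerMonoidHom ⟨n, hn⟩)
    refine ⟨a, a.2, (a : G)⁻¹ * n, Subgroup.mem_centralizer_iff.2 fun x hx => ?_, by group⟩
    have h : n * x * n⁻¹ = (a : G) * x * (a : G)⁻¹ := congrArg Subtype.val (ha ⟨x, hx⟩)
    calc x * ((a : G)⁻¹ * n) = (a : G)⁻¹ * ((a : G) * x * (a : G)⁻¹) * n := by group
      _ = (a : G)⁻¹ * (n * x * n⁻¹) * n := by rw [h]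
      _ = (a : G)⁻¹ * n * x := by group
  have huniq : ∀ c ∈ C, c ^ 2 = 1 → c = 1 ∨ c = w := by
    intro c hc hc2
    by_cases hc1 : c = 1
    · exact Or.inl hc1
    right
    have := eq_of_cyclic_sylow hR (x := ⟨c, hc⟩) (y := ⟨w, hzC⟩) (Subtype.ext hc2) (Subtype.ext hw2)
      (fun e => hc1 (congrArg Subtype.val e)) (fun e => hw1 (congrArg Subtype.val e))
      (Subtype.ext (hcomm hwA hc).eq.symm)
    exact congrArg Subtype.val this
  -- squares of roots
  have hroot : ∀ n ∈ N, n ^ 2 = 1 → (∃ r ∈ C, r ^ 2 = w) → ∃ r ∈ C, r ^ 2 = w ∧ Commute n r := by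
    rintro n hn hn2 ⟨r₀, hr₀, hr₀2⟩
    obtain ⟨a, ha, c, hc, rfl⟩ := hdec n hn
    rw [(hcomm ha hc).mul_pow] at hn2
    have hc2A : c ^ 2 ∈ A := by
      rw [eq_inv_of_mul_eq_one_right hn2]
      exact inv_mem (pow_mem ha 2)
    have hc4 : c ^ 4 = 1 := by
      rcases hAC _ hc2A (pow_mem hc 2) with h | h <;> rw [show 4 = 2 * 2 from rfl, pow_mul, h]
      · exact one_pow 2
      · exact hw2
    have hr4 : r₀ ^ 4 = 1 := by rw [show 4 = 2 * 2 from rfl, pow_mul, hr₀2, hw2]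
    have hp : ∀ {v : ↥C}, v ^ 4 = 1 → IsPGroup 2 ↥(Subgroup.zpowers v) := fun {v} hv => by
      intro ⟨u, hu⟩
      obtain ⟨i, rfl⟩ := hu
      exact ⟨2, Subtype.ext (by
        show (v ^ i) ^ (2 ^ 2) = 1
        rw [← zpow_natCast, ← zpow_mul, mul_comm, zpow_mul, zpow_natCast,
          show (2 : ℕ) ^ 2 = 4 from rfl, hv, one_zpow])⟩
    obtain ⟨R, hRc⟩ := (hp (v := ⟨c, hc⟩) (Subtype.ext hc4)).exists_le_sylow
    obtain ⟨R₀, hRr⟩ := (hp (v := ⟨r₀, hr₀⟩) (Subtype.ext hr4)).exists_le_sylow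
    obtain ⟨x, hx⟩ := MulAction.exists_smul_eq ↥C R₀ R
    have hmem : x * ⟨r₀, hr₀⟩ * x⁻¹ ∈ (R : Subgroup ↥C) := by
      rw [← hx]
      exact Subgroup.smul_mem_pointwise_smul _ (MulAut.conj x) _ (hRr (Subgroup.mem_zpowers _))
    refine ⟨((x * ⟨r₀, hr₀⟩ * x⁻¹ : ↥C) : G), (x * ⟨r₀, hr₀⟩ * x⁻¹ : ↥C).2, ?_, ?_⟩
    · show ((x : G) * r₀ * (x : G)⁻¹) ^ 2 = w
      rw [conj_pow, hr₀2, (hcomm hwA x.2).eq.symm, mul_inv_cancel_right]
    · refine Commute.mul_left (hcomm ha (x * ⟨r₀, hr₀⟩ * x⁻¹ : ↥C).2) ?_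
      haveI := hR R
      have := (IsMulCommutative.is_comm (M := ↥(R : Subgroup ↥C))).comm ⟨_, hRc (Subgroup.mem_zpowers _)⟩ ⟨_, hmem⟩
      exact congrArg (fun v : ↥(R : Subgroup ↥C) => ((v : ↥C) : G)) this
  have hiso : IsIsolatedInvolution w := by
    refine ⟨orderOf_eq_prime hw2 hw1, fun g hg => ?_⟩
    set s := g * w * g⁻¹ with hs
    by_contra hne
    have hs2 : s ^ 2 = 1 := by rw [hs, conj_pow, hw2, mul_one, mul_inv_cancel]
    have hs1 : s ≠ 1 := fun e => hw1 (conj_eq_one_iff.1 e)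
    have hsN : s ∈ N := (hN s).2 hg.symm
    obtain ⟨a, ha, c, hc, hsac⟩ := hdec s hsN
    have hac2 : a ^ 2 * c ^ 2 = 1 := by rw [← (hcomm ha hc).mul_pow, ← hsac, hs2]
    have haC : a ∉ C := fun haC => by
      rcases huniq s (hsac ▸ mul_mem haC hc) hs2 with h | h
      · exact hs1 h
      · exact hne h
    have haZ : (⟨a, ha⟩ : ↥A) ∉ Subgroup.center ↥A := fun h => haC (hcen _ h)
    have ha2 : a ^ 2 ∈ C := by
      rw [eq_inv_of_mul_eq_one_left hac2]
      exact inv_mem (pow_mem hc 2)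
    have ha21 : a ^ 2 = 1 := by
      rcases hAC _ (pow_mem ha 2) ha2 with h | h
      · exact h
      exfalso
      have hc2 : c ^ 2 = w := by
        rw [h] at hac2
        rw [eq_inv_of_mul_eq_one_right hac2]
        exact inv_eq_of_mul_eq_one_left (by rw [← pow_two, hw2])
      -- `s` is a square in the normaliser
      set n := g⁻¹ * w * g with hn
      have hnN : n ∈ N := (hN n).2 (by
        show n * w = w * n
        have h' : w * s = s * w := hg.eq
        calc n * w = g⁻¹ * (w * s) * g := by simp only [hn, hs]; group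
          _ = g⁻¹ * (s * w) * g := by rw [h']
          _ = w * n := by simp only [hn, hs]; group)
      have hn2 : n ^ 2 = 1 := by
        rw [hn, show g⁻¹ * w * g = g⁻¹ * w * (g⁻¹)⁻¹ by rw [inv_inv], conj_pow, hw2, mul_one,
          mul_inv_cancel]
      obtain ⟨r, hr, hr2, hrn⟩ := hroot n hnN hn2 ⟨c, hc, hc2⟩
      set y := g * r * g⁻¹ with hy
      have hyN : y ∈ N := (hN y).2 (by
        show y * w = w * y
        calc y * w = g * (r * n) * g⁻¹ := by simp only [hy, hn]; group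
          _ = g * (n * r) * g⁻¹ := by rw [hrn.eq]
          _ = w * y := by simp only [hy, hn]; group)
      obtain ⟨a₁, ha₁, c₁, hc₁, hyac⟩ := hdec y hyN
      have hsq : a₁ ^ 2 * c₁ ^ 2 = a * c := by
        rw [← (hcomm ha₁ hc₁).mul_pow, ← hyac, hy, conj_pow, hr2, ← hsac]
      have hd : a⁻¹ * a₁ ^ 2 ∈ C := by
        rw [show a⁻¹ * a₁ ^ 2 = a⁻¹ * (a₁ ^ 2 * c₁ ^ 2) * (c₁ ^ 2)⁻¹ by group, hsq,
          inv_mul_cancel_left]
        exact mul_mem hc (inv_mem (pow_mem hc₁ 2))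
      have hdc : Commute a (a⁻¹ * a₁ ^ 2) := hcomm ha hd
      have hd2 : (a⁻¹ * a₁ ^ 2) ^ 2 = 1 := by
        rcases hAC _ (mul_mem (inv_mem ha) (pow_mem ha₁ 2)) hd with e | e <;> rw [e]
        · exact one_pow 2
        · exact hw2
      have h4 : a₁ ^ 4 = a ^ 2 := by
        calc a₁ ^ 4 = (a * (a⁻¹ * a₁ ^ 2)) ^ 2 := by rw [mul_inv_cancel_left, ← pow_mul]
          _ = a ^ 2 := by rw [hdc.mul_pow, hd2, mul_one]
      have hm : (⟨a₁, ha₁⟩ : ↥A) ^ 4 ∈ Subgroup.center ↥A := by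
        have : (⟨a₁, ha₁⟩ : ↥A) ^ 4 = (z : ↥A) := Subtype.ext (h4.trans h)
        rw [this]; exact z.2
      exact hw1 (h.symm.trans (h4.symm.trans (congrArg Subtype.val (h2 _ hm))))
    have hc21 : c ^ 2 = 1 := by rwa [ha21, one_mul] at hac2
    have hcA : c ∈ A := by
      rcases huniq c hc hc21 with h | h <;> rw [h]
      · exact one_mem A
      · exact hwA
    have hsA : s ∈ A := hsac ▸ mul_mem ha hcA
    have hsZ : (⟨s, hsA⟩ : ↥A) ∉ Subgroup.center ↥A := fun h => by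
      rcases huniq s (hcen _ h) hs2 with h | h
      · exact hs1 h
      · exact hne h
    have hsq : (⟨s, hsA⟩ : ↥A) ^ 2 = 1 := Subtype.ext hs2
    by_cases hr0 : ∃ r ∈ C, r ^ 2 = w
    · -- a root of `s` in the centre of a Sylow 2-subgroup
      obtain ⟨P, hP, hPi, hPs, hPu⟩ := h3 _ hsq hsZ
      obtain ⟨r, hr, hr2, -⟩ := hroot 1 (one_mem N) (one_pow 2) hr0
      have hr4 : (⟨r, hr⟩ : ↥C) ^ 4 = 1 := Subtype.ext (show r ^ 4 = 1 by
        rw [show 4 = 2 * 2 from rfl, pow_mul, hr2, hw2])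
      obtain ⟨R, hRr⟩ := (show IsPGroup 2 ↥(Subgroup.zpowers (⟨r, hr⟩ : ↥C)) from by
        intro ⟨u, hu⟩
        obtain ⟨i, rfl⟩ := hu
        exact ⟨2, Subtype.ext (by
          show ((⟨r, hr⟩ : ↥C) ^ i) ^ (2 ^ 2) = 1
          rw [← zpow_natCast, ← zpow_mul, mul_comm, zpow_mul, zpow_natCast,
            show (2 : ℕ) ^ 2 = 4 from rfl, hr4, one_zpow])⟩).exists_le_sylow
      let f : ↥A × ↥C →* ↥N :=
        MonoidHom.mk' (fun p => ⟨(p.1 : G) * p.2, mul_mem (hAN p.1.2) (hCN p.2.2)⟩) fun p q =>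
          Subtype.ext (by
            show ((p.1 : G) * q.1) * ((p.2 : G) * q.2) = ((p.1 : G) * p.2) * ((q.1 : G) * q.2)
            exact ((hcomm q.1.2 p.2.2).mul_mul_mul_comm _ _))
      have hf : Function.Surjective f := fun n => by
        obtain ⟨a', ha', c', hc', e⟩ := hdec n n.2
        exact ⟨(⟨a', ha'⟩, ⟨c', hc'⟩), Subtype.ext e.symm⟩
      let T := (P.prod (R : Subgroup ↥C)).map f
      have hT : IsPGroup 2 ↥T := by
        refine IsPGroup.map ?_ f
        intro u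
        obtain ⟨j, hj⟩ := hP ⟨u.1.1, u.2.1⟩
        obtain ⟨k, hk⟩ := R.2 ⟨u.1.2, u.2.2⟩
        refine ⟨j + k, Subtype.ext (Prod.ext ?_ ?_)⟩
        · show u.1.1 ^ (2 ^ (j + k)) = 1
          rw [pow_add, pow_mul, show u.1.1 ^ 2 ^ j = 1 from congrArg Subtype.val hj, one_pow]
        · show u.1.2 ^ (2 ^ (j + k)) = 1
          rw [pow_add, mul_comm, pow_mul,
            show u.1.2 ^ 2 ^ k = 1 from congrArg Subtype.val hk, one_pow]
      have hTi : ¬ 2 ∣ T.index := fun h => by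
        have h' := h.trans (Subgroup.index_map_dvd _ hf)
        rw [Subgroup.index_prod] at h'
        rcases (Nat.Prime.dvd_mul Nat.prime_two).1 h' with h'' | h''
        · exact hPi h''
        · exact R.not_dvd_index h''
      have hTs : ∀ t ∈ T, Commute (t : G) s := by
        rintro _ ⟨⟨p, q⟩, ⟨hp, -⟩, rfl⟩
        show Commute ((p : G) * q) s
        exact Commute.mul_left (congrArg Subtype.val (hPs p hp).eq) (hcomm hsA q.2).symm
      -- conjugate `T` into the normaliser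
      let T₀ := (T.map N.subtype).map (MulAut.conj g⁻¹).toMonoidHom
      have hT₀N : T₀ ≤ N := by
        rintro _ ⟨_, ⟨t, ht, rfl⟩, rfl⟩
        refine (hN _).2 ?_
        have h := (hTs t ht).eq
        show g⁻¹ * (t : G) * g⁻¹⁻¹ * w = w * (g⁻¹ * t * g⁻¹⁻¹)
        calc g⁻¹ * (t : G) * g⁻¹⁻¹ * w = g⁻¹ * ((t : G) * s) * g := by rw [hs]; group
          _ = g⁻¹ * (s * t) * g := by rw [h]
          _ = _ := by rw [hs]; group
      have hcard : Nat.card ↥(T₀.subgroupOf N) = Nat.card ↥T := by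
        rw [Nat.card_congr (Subgroup.subgroupOfEquivOfLe hT₀N).toEquiv,
          Subgroup.card_map_of_injective (MulAut.conj g⁻¹).injective,
          Subgroup.card_map_of_injective N.subtype_injective]
      have hT₀2 : IsPGroup 2 ↥(T₀.subgroupOf N) :=
        ((hT.map _).map _).comap_of_injective _ N.subtype_injective
      have hT₀i : ¬ 2 ∣ (T₀.subgroupOf N).index := by
        have e1 := (T₀.subgroupOf N).card_mul_index
        rw [hcard, ← T.card_mul_index] at e1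
        rwa [Nat.eq_of_mul_eq_mul_left Nat.card_pos e1]
      obtain ⟨m, hm⟩ := MulAction.exists_smul_eq ↥N (hT.toSylow hTi) (hT₀2.toSylow hT₀i)
      have hrT : f (1, ⟨r, hr⟩) ∈ T := ⟨_, ⟨one_mem P, hRr (Subgroup.mem_zpowers _)⟩, rfl⟩
      have hsm : ∀ v ∈ T, m * v * m⁻¹ ∈ T₀.subgroupOf N := fun v hv => by
        have := congrArg (fun S : Sylow 2 ↥N => (S : Subgroup ↥N)) hm
        rw [show T₀.subgroupOf N = ((hT₀2.toSylow hT₀i : Sylow 2 ↥N) : Subgroup ↥N) from rfl, ← hm]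
        exact Subgroup.smul_mem_pointwise_smul v (MulAut.conj m) _ hv
      have hrc : ∀ v ∈ T, Commute v (f (1, ⟨r, hr⟩)) := by
        rintro _ ⟨⟨p, q⟩, ⟨-, hq⟩, rfl⟩
        refine Commute.map (Prod.ext (by simp) ?_) f
        haveI := hR R
        exact congrArg Subtype.val ((IsMulCommutative.is_comm (M := ↥(R : Subgroup ↥C))).comm ⟨q, hq⟩
          ⟨⟨r, hr⟩, hRr (Subgroup.mem_zpowers _)⟩)
      have hmT : ∀ v ∈ T₀.subgroupOf N, m⁻¹ * v * m ∈ T := fun v hv => by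
        have : v ∈ ((hT₀2.toSylow hT₀i : Sylow 2 ↥N) : Subgroup ↥N) := hv
        rw [← hm] at this
        have := Subgroup.mem_pointwise_smul_iff_inv_smul_mem.1 this
        simpa using this
      obtain ⟨_, ⟨u, huT, rfl⟩, hu⟩ := hsm _ hrT
      have hfr : ((f (1, ⟨r, hr⟩) : ↥N) : G) = r := one_mul r
      replace hu : g⁻¹ * (u : G) * g = (m : G) * r * (m : G)⁻¹ := by
        have h' : g⁻¹ * (u : G) * g⁻¹⁻¹ = (m : G) * ((f (1, ⟨r, hr⟩) : ↥N) : G) * (m : G)⁻¹ := hu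
        rwa [inv_inv, hfr] at h'
      have hu' : (u : G) = g * ((m : G) * r * (m : G)⁻¹) * g⁻¹ := by rw [← hu]; group
      have hu2 : (u : G) ^ 2 = s := by
        rw [hu', conj_pow, conj_pow, hr2, ((hN m).1 m.2).eq, mul_inv_cancel_right, hs]
      have huc : ∀ t ∈ T, Commute (t : G) (u : G) := fun t ht => by
        have hb : (⟨g⁻¹ * (t : G) * g, hT₀N ⟨t, ⟨t, ht, rfl⟩, by simp⟩⟩ : ↥N) ∈ T₀.subgroupOf N :=
          ⟨t, ⟨t, ht, rfl⟩, by simp⟩
        have h' := congrArg Subtype.val (hrc _ (hmT _ hb)).eq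
        simp only [Subgroup.coe_mul, Subgroup.coe_inv, hfr] at h'
        rw [hu']
        show (t : G) * _ = _ * (t : G)
        calc (t : G) * (g * ((m : G) * r * (m : G)⁻¹) * g⁻¹)
            = g * (m : G) * (((m : G)⁻¹ * (g⁻¹ * (t : G) * g) * m) * r) * (m : G)⁻¹ * g⁻¹ := by group
          _ = g * (m : G) * (r * ((m : G)⁻¹ * (g⁻¹ * (t : G) * g) * m)) * (m : G)⁻¹ * g⁻¹ := by
            rw [h']
          _ = _ := by group
      obtain ⟨⟨p, q⟩, ⟨hp, -⟩, rfl⟩ := huT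
      refine hPu p hp (fun p' hp' => ?_) ?_
      · have h' : Commute ((p' : G) * ((1 : ↥C) : G)) ((p : G) * q) :=
          huc (f (p', 1)) ⟨_, ⟨hp', one_mem _⟩, rfl⟩
        rw [Subgroup.coe_one, mul_one] at h'
        have hq : Commute (p' : G) (q : G) := hcomm p'.2 q.2
        have := h'.mul_right hq.inv_right
        rw [mul_inv_cancel_right] at this
        exact Subtype.ext this.eq
      · have h' : ((p : G) * q) ^ 2 = s := hu2
        rw [(hcomm p.2 q.2).mul_pow] at h'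
        refine Subgroup.mem_center_iff.2 fun x => Subtype.ext ?_
        have hqC : (p : G) ^ 2 * s⁻¹ ∈ C := by
          rw [← h', show (p : G) ^ 2 * ((p : G) ^ 2 * (q : G) ^ 2)⁻¹ =
            (p : G) ^ 2 * ((q : G) ^ 2)⁻¹ * ((p : G) ^ 2)⁻¹ by group,
            (hcomm (pow_mem p.2 2) (inv_mem (pow_mem q.2 2))).eq, mul_inv_cancel_right]
          exact inv_mem (pow_mem q.2 2)
        exact Subgroup.mem_centralizer_iff.1 hqC x x.2
    · -- a fourth root of `s`
      obtain ⟨x, hx⟩ := h1 _ hsq hsZ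
      have hx4 : (x : G) ^ 4 = s := congrArg Subtype.val hx
      set y := g⁻¹ * (x : G) * g with hy
      have hy4 : y ^ 4 = w := by
        rw [hy, show g⁻¹ * (x : G) * g = g⁻¹ * x * (g⁻¹)⁻¹ by rw [inv_inv], conj_pow, hx4, hs]
        group
      have hyN : y ∈ N := (hN y).2 (by rw [← hy4]; exact (Commute.refl y).pow_right 4)
      obtain ⟨a', ha', c', hc', hyac⟩ := hdec y hyN
      rw [hyac, (hcomm ha' hc').mul_pow] at hy4
      have hm : (⟨a', ha'⟩ : ↥A) ^ 4 ∈ Subgroup.center ↥A := Subgroup.mem_center_iff.2 fun v =>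
        Subtype.ext (Subgroup.mem_centralizer_iff.1 (show a' ^ 4 ∈ C by
          rw [eq_mul_inv_of_mul_eq hy4]; exact mul_mem hzC (inv_mem (pow_mem hc' 4))) v v.2)
      have h4 : a' ^ 4 = 1 := congrArg Subtype.val (h2 _ hm)
      rw [h4, one_mul] at hy4
      exact hr0 ⟨c' ^ 2, pow_mem hc' 2, by rw [← pow_mul]; exact hy4⟩
  have hz : ∀ g : G, w * g * w⁻¹ * g⁻¹ ∈ oddCore G := ZStar.zStar G w hiso
  rw [hO] at hz
  refine Subgroup.normalizer_eq_top_iff.1 (eq_top_iff.2 fun g _ => (hN g).2 ?_)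
  have h := Subgroup.mem_bot.1 (hz g)
  show g * w = w * g
  calc g * w = (w * g * w⁻¹ * g⁻¹) * (g * w) := by rw [h, one_mul]
    _ = w * g := by group

end Cfsg.Agent.Lib.StdDouble76
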